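import Mathlib
import Cfsg.Agent.H64.Cross
import Cfsg.Agent.KFacts.MulOdd.InstChev
import Cfsg.Agent.S0261
import Cfsg.Agent.S0262
set_option linter.all false

/-!
# Cross characteristic: the Chevalley groups `D.group K`

* `Nd` : a homomorphism `SL(2, F) → Y` onto the rank one group of a node of a root group datum (any characteristic);
* `noCE_range`, `noCE_SL` : `SL(2, F)` and its quotients have no central extensions of order `r ≠ p` generated by
  `p`-elements;
* `chev_card_ker_dvd` : a finite perfect central extension of `D.group K` with kernel of order prime to `p`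
  satisfies `|ker| ∣ d`, `d * |T| = (q - 1) ^ l`;
* `noCov_G2, noCov_F4, noCov_E8` : no perfect central extension of order `r`, for every prime `r ≠ p`;
* `ker_E6, ker_E7, ker_D4` : the order of the kernel divides `gcd (3, q - 1)`, `gcd (2, q - 1)`, `gcd (2, q - 1) ^ 2`.
-/

set_option autoImplicit false
set_option linter.unusedSectionVars false
set_option linter.style.haveILetI false

namespace Cfsg.Agent.H64.CrossChev

open CoxeterSystem Cfsg.Agent.ChevalleyStructure.CoxeterGeom Cfsg.Agent.Tits.Roots Cfsg.Agent.Tits.Core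
  Cfsg.Agent.Tits.RootComb Cfsg.Agent.Nodes.Comb Cfsg.Agent.Nodes.Reps Cfsg.Agent.Nodes.BNOf Cfsg.Agent.Nodes.BNOf.RGD
open Cfsg.Agent.ChevalleyStructure.SL2Hom (up lo mem_closure_SL2)
open Cfsg.Agent.Nodes.RGDFoldSL (wS hS coe_wS coe_hS lo_eq)
open Cfsg.Agent.KFacts.MulOdd.Node (up_zero up_mul up_inv hS_up hS_one hS_neg_one eq_of_lower_zero eq_of_lower_ne
  lower_zero_of_mul eq_one_of_mem)
open Cfsg.Agent.KFacts.MulOdd.Inst Cfsg.Agent.H67 Cfsg.Agent.H67.Cross Cfsg.Agent.H51.Mult
open scoped MatrixGroups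

section node

variable {I W Y : Type*} [Fintype I] [DecidableEq I] [Group W] [Group Y] {M : CoxeterMatrix I}
variable {cs : CoxeterSystem M W} {A : I → I → ℤ} {h : IsCartan M A} {p : ℕ} {T : Subgroup Y} {n : I → Y}
  {X : (I → ℤ) → Subgroup Y}

/-- A homomorphism from `SL(2, F)` onto the rank one group of the node `i`. -/
structure Nd (T : Subgroup Y) (n : I → Y) (X : (I → ℤ) → Subgroup Y) (i : I) {F : Type*} [Field F]
    (φ : SL(2, F) →* Y) : Prop where
  mem : ∀ y, y ∈ X (sr i) ↔ ∃ a, φ (up a) = y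
  inj : ∀ a, φ (up a) = 1 → a = 0
  dia : ∀ c, c ≠ 0 → φ (hS c) ∈ T
  w : φ (wS 1) = n i
  neg : φ (-1) = 1 → (-1 : SL(2, F)) = 1

variable {i : I} {F : Type*} [Field F] {φ : SL(2, F) →* Y} (R : RGD cs h p T n X) (N : Nd T n X i φ)

include R N

theorem Nd.injective [Finite Y] : Function.Injective φ := by
  rw [injective_iff_map_eq_one]
  intro g hg
  by_cases hc : g 1 0 = 0
  · obtain ⟨c, hc0, a, rfl⟩ := eq_of_lower_zero g hc
    rw [map_mul] at hg
    have ha : φ (up a) ∈ T := by
      rw [eq_inv_of_mul_eq_one_right hg]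
      exact inv_mem (N.dia c hc0)
    have ha0 : a = 0 := N.inj a (eq_one_of_mem R ((N.mem _).2 ⟨a, rfl⟩) ha)
    subst ha0
    rw [up_zero, map_one, mul_one] at hg
    have h1 : φ (hS c * up 1 * (hS c)⁻¹) = φ (up 1) := by
      rw [map_mul, map_mul, map_inv, hg, one_mul, inv_one, mul_one]
    rw [hS_up hc0, mul_one] at h1
    have h2 : φ (up (c * c + -1)) = 1 := by
      rw [← up_mul, map_mul, h1, ← map_mul, up_mul, add_neg_cancel, up_zero, map_one]
    have h3 := N.inj _ h2
    have h4 : (c - 1) * (c + 1) = 0 := by linear_combination h3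
    rcases mul_eq_zero.1 h4 with h5 | h5
    · have : c = 1 := by linear_combination h5
      rw [this, hS_one, up_zero, mul_one]
    · have : c = -1 := by linear_combination h5
      subst this
      rw [hS_neg_one] at hg
      rw [hS_neg_one, up_zero, mul_one]
      exact N.neg hg
  · exfalso
    obtain ⟨a, b, c, hc0, rfl⟩ := eq_of_lower_ne g hc
    rw [map_mul, map_mul, map_mul, N.w] at hg
    have hX : ∀ a, φ (up a) ∈ X (sr i) := fun a => (N.mem _).2 ⟨a, rfl⟩
    have hni : n i = (φ (hS c))⁻¹ * ((φ (up a))⁻¹ * (φ (up b))⁻¹) := by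
      have h1 : φ (up a) * (φ (hS c) * n i) = (φ (up b))⁻¹ := eq_inv_of_mul_eq_one_left hg
      rw [← h1]; group
    have h2 : cj (n i) (X (sr i)) = X (sr i) := by
      rw [hni, cj_mul, cj_eq_of_mem (mul_mem (inv_mem (hX a)) (inv_mem (hX b)))]
      exact R.tor _ (isRoot_sr cs h i) _ (inv_mem (N.dia c hc0))
    rw [R.conj i _ (isRoot_sr cs h i), rep_simple_sr] at h2
    apply R.notp i
    rw [h2, sup_idem]
    exact R.pgrp i

theorem Nd.conj_eq (y : Y) : y ∈ X (-sr i) ↔ ∃ a, φ (wS 1 * up a * (wS 1)⁻¹) = y := by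
  rw [← rep_simple_sr cs h i, ← R.conj i _ (isRoot_sr cs h i), mem_cj, N.mem]
  constructor
  · rintro ⟨a, ha⟩
    refine ⟨a, ?_⟩
    rw [map_mul, map_mul, map_inv, N.w, ha]
    group
  · rintro ⟨a, rfl⟩
    refine ⟨a, ?_⟩
    rw [map_mul, map_mul, map_inv, N.w]
    group

theorem Nd.range : φ.range = X (sr i) ⊔ X (-sr i) := by
  apply le_antisymm
  · rintro _ ⟨g, rfl⟩
    have h1 : Subgroup.closure (Set.range (up (F := F)) ∪ Set.range (lo (F := F))) ≤
        (X (sr i) ⊔ X (-sr i)).comap φ := by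
      rw [Subgroup.closure_le]
      rintro _ (⟨a, rfl⟩ | ⟨a, rfl⟩)
      · exact (le_sup_left : X (sr i) ≤ _) ((N.mem _).2 ⟨a, rfl⟩)
      · refine (le_sup_right : X (-sr i) ≤ _) ((N.conj_eq R _).2 ⟨-a, ?_⟩)
        rw [← lo_eq]
    exact h1 (mem_closure_SL2 g)
  · refine sup_le ?_ ?_
    · intro y hy
      obtain ⟨a, rfl⟩ := (N.mem y).1 hy
      exact ⟨_, rfl⟩
    · intro y hy
      obtain ⟨a, rfl⟩ := (N.conj_eq R y).1 hy
      exact ⟨_, rfl⟩

theorem Nd.exists_hS [Finite Y] {t : Y} (ht : t ∈ T) (hr : t ∈ X (sr i) ⊔ X (-sr i)) :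
    ∃ c : F, c ≠ 0 ∧ t = φ (hS c) := by
  rw [← N.range R] at hr
  obtain ⟨g, rfl⟩ := hr
  have h1 : φ g * φ (up 1) * (φ g)⁻¹ ∈ X (sr i) := by
    rw [← R.tor _ (isRoot_sr cs h i) _ ht]
    exact conj_mem_cj.2 ((N.mem _).2 ⟨1, rfl⟩)
  obtain ⟨a, ha⟩ := (N.mem _).1 h1
  have h2 : up a = g * up 1 * g⁻¹ := N.injective R (by rw [ha, map_mul, map_mul, map_inv])
  have h3 : g * up 1 = up a * g := by rw [h2]; group
  obtain ⟨c, hc0, b, rfl⟩ := eq_of_lower_zero g (lower_zero_of_mul h3)
  refine ⟨c, hc0, ?_⟩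
  rw [map_mul] at ht ⊢
  have hb : φ (up b) ∈ T := (Subgroup.mul_mem_cancel_left _ (N.dia c hc0)).1 ht
  rw [eq_one_of_mem R ((N.mem _).2 ⟨b, rfl⟩) hb, mul_one]

theorem Nd.card_torus [Finite Y] [Finite F] : Nat.card ↥(T ⊓ (X (sr i) ⊔ X (-sr i))) ∣ Nat.card F - 1 := by
  have : Finite Fˣ := inferInstance
  let f : Fˣ →* Y :=
    { toFun := fun c => φ (hS (c : F))
      map_one' := by rw [Units.val_one, hS_one, map_one]
      map_mul' := fun a b => by
        rw [← map_mul]
        congr 1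
        apply Subtype.ext
        rw [Matrix.SpecialLinearGroup.coe_mul, coe_hS a.ne_zero, coe_hS b.ne_zero, coe_hS (a * b).ne_zero]
        ext i j
        fin_cases i <;> fin_cases j <;> simp [Matrix.mul_apply, Fin.sum_univ_two, mul_comm] }
  have hle : T ⊓ (X (sr i) ⊔ X (-sr i)) ≤ f.range := by
    intro t ht
    obtain ⟨c, hc, e⟩ := N.exists_hS R (Subgroup.mem_inf.1 ht).1 (Subgroup.mem_inf.1 ht).2
    exact ⟨Units.mk0 c hc, e.symm⟩
  rw [← Nat.card_units]
  exact (Subgroup.card_dvd_of_le hle).trans (Subgroup.card_range_dvd f)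

theorem Nd.noCE [Finite Y] {p' r : ℕ} (hc : NoCE p' r SL(2, F)) : NoCE p' r ↥(Lv X i) :=
  hc.congr ((MonoidHom.ofInjective (N.injective R)).trans (MulEquiv.subgroupCongr (N.range R)))

end node

/-! ### `SL(2, F)` -/

/-- `SL(2, F)` has no central extension of prime order `r ≠ p` generated by `p`-elements. -/
theorem noCE_SL {F : Type*} [Field F] [Finite F] {p r : ℕ} (hp : p.Prime) [CharP F p] (hr : r.Prime) (hne : r ≠ p) :
    NoCE p r SL(2, F) := by
  have : Fintype F := Fintype.ofFinite F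
  haveI : Fact r.Prime := ⟨hr⟩
  haveI : Fact p.Prime := ⟨hp⟩
  by_cases h2 : r = 2
  · subst h2
    have hodd : Odd (Fintype.card F) := by
      have h1 : ringChar F ≠ 2 := fun h0 => hne ((ringChar.eq F p).symm.trans h0).symm |>.elim
      exact Nat.odd_iff.2 (FiniteField.odd_card_of_char_ne_two h1)
    let P0 : Sylow 2 SL(2, F) := default
    obtain ⟨k, -, ⟨e⟩⟩ := Cfsg.Agent.S0261.result hodd P0
    exact NoCE.of_quaternion hp (Ne.symm hne) P0.not_dvd_index e
  · exact NoCE.of_cyclic_sylow hp hr hne fun S => Cfsg.Agent.S0262.result p r h2 hne S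

/-! ### The Chevalley groups -/

section chev

open Cfsg.Lie Cfsg.Agent.ChevalleyStructure Cfsg.Agent.ChevalleyStructure.Elts
  Cfsg.Agent.ChevalleyStructure.NPerm Cfsg.Agent.ChevalleyStructure.CoxeterGeomTypes Cfsg.Agent.Nodes.RGDChev
  Cfsg.Agent.Nodes.RGDFoldSL Cfsg.Agent.KFacts.MulOdd.InstChev

variable {D : ChevalleyDatum} {l : ℕ} {M : CoxeterMatrix (Fin l)} {W : Type*} [Group W]
  (hp : IsType D l M) (cs : CoxeterSystem M W)

theorem neg_one_eq {K : Type*} [Field K] (h2 : (2 : K) = 0) : (-1 : SL(2, K)) = 1 := by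
  have h3 : (-1 : K) = 1 := by linear_combination -h2
  apply Subtype.ext
  ext i j
  fin_cases i <;> fin_cases j <;> simp [h3]

theorem nd (hpar : parity D l = true) (K : Type) [Field K] (i : Fin l) :
    Nd ((D.diagonalSubgroup K).subgroupOf (D.group K))
      (fun i => (⟨nn hp K i, nn_mem_group hp i⟩ : ↥(D.group K)))
      (fun x => (XV D l K x).subgroupOf (D.group K)) i (psiG hp K i) := by
  have h := simple_lt hp.inList (lt_rank hp i)
  constructor
  · rintro ⟨y, hy⟩
    rw [Subgroup.mem_subgroupOf, XV_sr hp]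
    show y ∈ D.rootSubgroup K (D.simple i) ↔ _
    rw [mem_rootSubgroup_iff hp.inList]
    constructor
    · rintro ⟨t, rfl⟩
      exact ⟨t, Subtype.ext (psi_up hp.inList h t)⟩
    · rintro ⟨t, ht⟩
      have h1 : psi hp.inList K (D.simple i) (up t) = y := congrArg Subtype.val ht
      exact ⟨t, by rw [← h1, psi_up hp.inList h]⟩
  · intro a ha
    have h1 : psi hp.inList K (D.simple i) (up a) = 1 := congrArg Subtype.val ha
    rw [psi_up hp.inList h] at h1
    have h3 : xG hp.inList (D.simple i) a = xG hp.inList (D.simple i) 0 := by rw [h1, xG_zero]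
    exact xG_injective hp.inList h h3
  · intro c hc
    rw [Subgroup.mem_subgroupOf]
    show psi hp.inList K (D.simple i) (hS c) ∈ _
    rw [psi_hS hp.inList h]
    exact hG_mem_diagonal hp.inList h hc
  · exact Subtype.ext (psi_wS hp.inList h 1)
  · intro h0
    by_cases h2 : (2 : K) = 0
    · exact neg_one_eq h2
    exfalso
    have h1 : psi hp.inList K (D.simple i) (-1) = 1 := congrArg Subtype.val h0
    rw [← hS_neg_one, psi_hS hp.inList h] at h1
    obtain ⟨s, hs, he⟩ := parity_spec hpar i.2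
    exact hG_neg_one_ne hp.inList h2 h hs he h1

include hp in
/-- The bound for the kernel. -/
theorem chev_card_ker_mul_dvd (hpar : parity D l = true) (K : Type) [Field K] [Finite K] (p : ℕ) [CharP K p]
    {L : Type} [Group L] [Finite L] {π : L →* ↥(D.group K)} (hd : PCE π) (hcop : (Nat.card π.ker).Coprime p) :
    Nat.card π.ker * Nat.card (D.diagonalSubgroup K) ∣ (Nat.card K - 1) ^ l := by
  have hpp : p.Prime := CharP.char_is_prime K p
  haveI : Fact p.Prime := ⟨hpp⟩
  haveI : Finite M.Group := finite_W hp M.toCoxeterSystem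
  have R := rgd (K := K) hp M.toCoxeterSystem p
  have N := nd hp hpar K
  have h1 := Cfsg.Agent.H64.Cross.card_ker_mul_dvd hpp hd hcop R (G1_eq_top hp M.toCoxeterSystem)
    (fun i r hr hrd => ?_)
  · have h2 : Nat.card ↥((D.diagonalSubgroup K).subgroupOf (D.group K)) = Nat.card (D.diagonalSubgroup K) :=
      Nat.card_congr (Subgroup.subgroupOfEquivOfLe (diagonal_le_group hp.inList K)).toEquiv
    rw [h2] at h1
    refine h1.trans ((Finset.prod_dvd_prod_of_dvd _ _ fun i _ => (N i).card_torus R).trans ?_)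
    rw [Finset.prod_const, Finset.card_univ, Fintype.card_fin]
  · have hne : r ≠ p := by
      rintro rfl
      have := Nat.Coprime.eq_one_of_dvd hcop.symm hrd
      exact hr.one_lt.ne' this
    exact (N i).noCE R (noCE_SL hpp hr hne)

include hp in
/-- The order of the kernel divides the defect `d`, `d * |T| = (q - 1) ^ l`. -/
theorem chev_card_ker_dvd (hpar : parity D l = true) (K : Type) [Field K] [Finite K] (p : ℕ) [CharP K p]
    {d : ℕ} (hcard : d * Nat.card (D.diagonalSubgroup K) = (Nat.card K - 1) ^ l)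
    {L : Type} [Group L] [Finite L] {π : L →* ↥(D.group K)} (hd : PCE π) (hcop : (Nat.card π.ker).Coprime p) :
    Nat.card π.ker ∣ d := by
  have h1 := chev_card_ker_mul_dvd hp hpar K p hd hcop
  rw [← hcard] at h1
  have h2 : 0 < Nat.card (D.diagonalSubgroup K) := by
    have : Finite ↥(D.group K) := Finite.of_surjective π hd.surj
    have : Finite ↥(D.diagonalSubgroup K) := Finite.of_injective _
      (Subgroup.inclusion_injective (diagonal_le_group hp.inList K))
    exact Nat.card_pos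
  exact Nat.dvd_of_mul_dvd_mul_right h2 h1

include hp in
/-- No perfect central extension of prime order `r ≠ p`, `r ∤ d`. -/
theorem chev_noCov (hpar : parity D l = true) (K : Type) [Field K] [Finite K] (p : ℕ) [CharP K p]
    {d : ℕ} (hcard : d * Nat.card (D.diagonalSubgroup K) = (Nat.card K - 1) ^ l) {r : ℕ} (hr : r.Prime) (hne : r ≠ p)
    (hrd : ¬ r ∣ d) : NoCov r ↥(D.group K) := by
  intro L _ _ π hd hk
  have hpp : p.Prime := CharP.char_is_prime K p
  have h1 := chev_card_ker_dvd hp hpar K p hcard hd (by rw [hk]; exact (Nat.coprime_primes hr hpp).2 hne)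
  rw [hk] at h1
  exact hrd h1

end chev

section instances

open Cfsg.Lie Cfsg.Agent.ChevalleyStructure Cfsg.Agent.ChevalleyStructure.CoxeterGeomTypes
  Cfsg.Agent.Nodes.RGDChev Cfsg.Agent.KFacts.MulOdd.InstChev

theorem parity_E7 : parity chevE7 7 = true := by decide +kernel

theorem parity_D4 : parity chevD4 4 = true := by decide +kernel

variable (K : Type) [Field K] [Finite K] (p : ℕ) [CharP K p]

theorem isType_G2 : IsType chevG2 2 CoxeterMatrix.G₂ := by simp [IsType, typeList]
theorem isType_F4 : IsType chevF4 4 CoxeterMatrix.F₄ := by simp [IsType, typeList]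
theorem isType_E6 : IsType chevE6 6 CoxeterMatrix.E₆ := by simp [IsType, typeList]
theorem isType_E7 : IsType chevE7 7 CoxeterMatrix.E₇ := by simp [IsType, typeList]
theorem isType_E8 : IsType chevE8 8 CoxeterMatrix.E₈ := by simp [IsType, typeList]
theorem isType_D4 : IsType chevD4 4 coxeterD4 := by simp [IsType, typeList]

theorem torus {D : ChevalleyDatum} {l : ℕ} {M : CoxeterMatrix (Fin l)} (hp : IsType D l M) (d : ℕ → ℕ)
    (h1 : ∀ {F : Type} [Field F] [Fintype F], d (Fintype.card F) * Nat.card (D.diagonalSubgroup F) =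
      (Fintype.card F - 1) ^ D.rank) : d (Nat.card K) * Nat.card (D.diagonalSubgroup K) = (Nat.card K - 1) ^ l := by
  have := Fintype.ofFinite K
  rw [← hp.rank_eq, Nat.card_eq_fintype_card (α := K)]
  exact h1

theorem torus_G2 : 1 * Nat.card (chevG2.diagonalSubgroup K) = (Nat.card K - 1) ^ 2 :=
  torus K isType_G2 (fun _ => 1) fun {F} _ _ => Cfsg.Agent.S1035.result (F := F) rfl (chevG2, 1) (by simp)

theorem torus_F4 : 1 * Nat.card (chevF4.diagonalSubgroup K) = (Nat.card K - 1) ^ 4 :=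
  torus K isType_F4 (fun _ => 1) fun {F} _ _ => Cfsg.Agent.S1035.result (F := F) rfl (chevF4, 1) (by simp)

theorem torus_E8 : 1 * Nat.card (chevE8.diagonalSubgroup K) = (Nat.card K - 1) ^ 8 :=
  torus K isType_E8 (fun _ => 1) fun {F} _ _ => Cfsg.Agent.S1035.result (F := F) rfl (chevE8, 1) (by simp)

theorem torus_E6 : Nat.gcd 3 (Nat.card K - 1) * Nat.card (chevE6.diagonalSubgroup K) = (Nat.card K - 1) ^ 6 :=
  torus K isType_E6 (fun q => Nat.gcd 3 (q - 1)) fun {F} _ _ =>
    Cfsg.Agent.S1035.result (F := F) rfl (chevE6, Nat.gcd 3 (Fintype.card F - 1)) (by simp)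

theorem torus_E7 : Nat.gcd 2 (Nat.card K - 1) * Nat.card (chevE7.diagonalSubgroup K) = (Nat.card K - 1) ^ 7 :=
  torus K isType_E7 (fun q => Nat.gcd 2 (q - 1)) fun {F} _ _ =>
    Cfsg.Agent.S1035.result (F := F) rfl (chevE7, Nat.gcd 2 (Fintype.card F - 1)) (by simp)

theorem torus_D4 : Nat.gcd 2 (Nat.card K - 1) ^ 2 * Nat.card (chevD4.diagonalSubgroup K) = (Nat.card K - 1) ^ 4 :=
  torus K isType_D4 (fun q => Nat.gcd 2 (q - 1) ^ 2) fun {F} _ _ =>
    Cfsg.Agent.S1035.result (F := F) rfl (chevD4, Nat.gcd 2 (Fintype.card F - 1) ^ 2) (by simp)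

/-- **`G₂(q)`**: no perfect central extension with kernel of prime order `r ≠ p`. -/
theorem noCov_G2 {r : ℕ} (hr : r.Prime) (hne : r ≠ p) : NoCov r ↥(chevG2.group K) :=
  chev_noCov isType_G2 parity_G2 K p (torus_G2 K) hr hne (fun h => hr.one_lt.ne' (Nat.dvd_one.1 h))

/-- **`F₄(q)`**: no perfect central extension with kernel of prime order `r ≠ p`. -/
theorem noCov_F4 {r : ℕ} (hr : r.Prime) (hne : r ≠ p) : NoCov r ↥(chevF4.group K) :=
  chev_noCov isType_F4 parity_F4 K p (torus_F4 K) hr hne (fun h => hr.one_lt.ne' (Nat.dvd_one.1 h))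

/-- **`E₈(q)`**: no perfect central extension with kernel of prime order `r ≠ p`. -/
theorem noCov_E8 {r : ℕ} (hr : r.Prime) (hne : r ≠ p) : NoCov r ↥(chevE8.group K) :=
  chev_noCov isType_E8 parity_E8 K p (torus_E8 K) hr hne (fun h => hr.one_lt.ne' (Nat.dvd_one.1 h))

/-- **`E₆(q)`**: the kernel of a perfect central extension, of order prime to `p`, has order dividing
`gcd (3, q - 1)`. -/
theorem ker_E6 {L : Type} [Group L] [Finite L] {π : L →* ↥(chevE6.group K)} (hd : PCE π)
    (hcop : (Nat.card π.ker).Coprime p) : Nat.card π.ker ∣ Nat.gcd 3 (Nat.card K - 1) :=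
  chev_card_ker_dvd isType_E6 parity_E6 K p (torus_E6 K) hd hcop

/-- **`E₇(q)`**: the kernel of a perfect central extension, of order prime to `p`, has order dividing
`gcd (2, q - 1)`. -/
theorem ker_E7 {L : Type} [Group L] [Finite L] {π : L →* ↥(chevE7.group K)} (hd : PCE π)
    (hcop : (Nat.card π.ker).Coprime p) : Nat.card π.ker ∣ Nat.gcd 2 (Nat.card K - 1) :=
  chev_card_ker_dvd isType_E7 parity_E7 K p (torus_E7 K) hd hcop

/-- **`D₄(q)`**: the kernel of a perfect central extension, of order prime to `p`, has order dividing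
`gcd (2, q - 1) ^ 2`. -/
theorem ker_D4 {L : Type} [Group L] [Finite L] {π : L →* ↥(chevD4.group K)} (hd : PCE π)
    (hcop : (Nat.card π.ker).Coprime p) : Nat.card π.ker ∣ Nat.gcd 2 (Nat.card K - 1) ^ 2 :=
  chev_card_ker_dvd isType_D4 parity_D4 K p (torus_D4 K) hd hcop

end instances

end Cfsg.Agent.H64.CrossChev
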