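import Cfsg.Agent.H64.ChevP
import Cfsg.Agent.ChevalleyStructure.SharpSign
set_option linter.all false

/-!
# The 3-part of the multiplier of `G₂(3)` has order at most three

In a perfect central extension `L` of `G₂(3)` by a 3-group the commutator `z` of the lifts of `x_α(1)`, `x_β(1)`,
`α ⊥ β`, has `z³ = 1`, and the kernel of `L / ⟨z⟩ → G₂(3)` is trivial by the torus argument of `H64.AsmP`.
-/

set_option autoImplicit false
set_option linter.unusedSectionVars false

namespace Cfsg.Agent.H64.G23Upper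

open Subgroup Cfsg.Agent.H64.AsmP Cfsg.Agent.H51.Mult Cfsg.Agent.H64.ChevP
open Cfsg.Agent.KFacts.Mult.Calc (CE)
open Cfsg.Agent.KFacts.Mult.RGDW (Sep Free GG_eq_top_of_G1)
open CoxeterSystem Cfsg.Agent.ChevalleyStructure.CoxeterGeom Cfsg.Agent.Tits.Roots Cfsg.Agent.Tits.Core
  Cfsg.Agent.Tits.RootComb Cfsg.Agent.Nodes.Comb Cfsg.Agent.Nodes.Reps Cfsg.Agent.Nodes.BNOf
open Cfsg.Lie Cfsg.Agent.ChevalleyStructure Cfsg.Agent.ChevalleyStructure.Elts
  Cfsg.Agent.ChevalleyStructure.RootVec Cfsg.Agent.ChevalleyStructure.RootVecTab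
  Cfsg.Agent.ChevalleyStructure.NPerm Cfsg.Agent.ChevalleyStructure.CoxeterGeomTypes
  Cfsg.Agent.Nodes.RGDChev Cfsg.Agent.KFacts.Mult.Chev
open scoped commutatorElement

/-- the group -/
abbrev Y : Type := ↥(chevG2.group (ZMod 3))

theorem isType : IsType chevG2 2 CoxeterMatrix.G₂ := by simp [IsType, typeList]

/-- root subgroups -/
abbrev V (r : ℕ) : Subgroup Y := (chevG2.rootSubgroup (ZMod 3) r).subgroupOf (chevG2.group (ZMod 3))

/-- root elements -/
def xe (r : ℕ) (t : ZMod 3) : Y := ⟨xG isType.inList r t, xG_mem_group isType.inList r t⟩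

theorem mem_V {r : ℕ} {g : Y} : g ∈ V r ↔ ∃ t, g = xe r t := by
  rw [mem_subgroupOf, mem_rootSubgroup_iff isType.inList]
  constructor
  · rintro ⟨t, ht⟩
    exact ⟨t, Subtype.ext ht⟩
  · rintro ⟨t, rfl⟩
    exact ⟨t, rfl⟩

theorem xe_mem (r : ℕ) (t : ZMod 3) : xe r t ∈ V r := mem_V.2 ⟨t, rfl⟩

theorem xe_add (r : ℕ) (t u : ZMod 3) : xe r (t + u) = xe r t * xe r u :=
  Subtype.ext (xG_add isType.inList r t u).symm

theorem xe_zero (r : ℕ) : xe r 0 = 1 := Subtype.ext (xG_zero isType.inList r)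

theorem xe_pow (r : ℕ) (k : ℕ) : xe r (k : ZMod 3) = xe r 1 ^ k := by
  induction k with
  | zero => rw [Nat.cast_zero, xe_zero, pow_zero]
  | succ k ih => rw [Nat.cast_succ, xe_add, ih, pow_succ]

theorem exists_pow {r : ℕ} {g : Y} (hg : g ∈ V r) : ∃ k : ℕ, g = xe r 1 ^ k := by
  obtain ⟨t, rfl⟩ := mem_V.1 hg
  refine ⟨t.val, ?_⟩
  rw [← xe_pow, ZMod.natCast_zmod_val]

theorem cyclic_V (r : ℕ) : IsCyclic (V r) := by
  refine ⟨⟨⟨xe r 1, xe_mem r 1⟩, fun g => ?_⟩⟩
  obtain ⟨k, hk⟩ := exists_pow g.2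
  exact ⟨(k : ℤ), Subtype.ext (by show ((⟨xe r 1, xe_mem r 1⟩ : V r) ^ (k : ℤ) : V r).1 = g.1; rw [zpow_natCast]; exact hk.symm)⟩

/-- the preimages of `V r` and `V s` commute -/
def Com {L : Type*} [Group L] (π : L →* Y) (r s : ℕ) : Prop :=
  ∀ a b : L, π a ∈ V r → π b ∈ V s → a * b = b * a

theorem Com.symm {L : Type*} [Group L] {π : L →* Y} {r s : ℕ} (h : Com π r s) : Com π s r :=
  fun a b ha hb => (h b a hb ha).symm

/-- reflections -/
theorem Com.refl {L : Type*} [Group L] {π : L →* Y} (hπ : Function.Surjective π) {r s : ℕ} (h : Com π r s)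
    (hr : r < 12) (hs : s < 12) (i : ℕ) (hi : i < 2) : Com π (chevG2.reflectRoot i r) (chevG2.reflectRoot i s) := by
  have hS := SharpSign.sharp (F := ZMod 3) isType.inList
  set n : Y := ⟨nG isType.inList (chevG2.simple i) 1, nG_mem_group isType.inList _ _⟩ with hn
  obtain ⟨g, hg⟩ := hπ n
  have key : ∀ {r : ℕ} (_ : r < 12) {v : L}, π v ∈ V (chevG2.reflectRoot i r) → π (g⁻¹ * v * g) ∈ V r := by
    intro r hr v hv
    obtain ⟨t, ht⟩ := mem_V.1 hv
    obtain ⟨η, hη, h1⟩ := MonomialNormal.xG_conj isType.inList hS (i := i) (s := r) hi hr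
    have hηη : η * η = 1 := by
      rcases hη with rfl | rfl
      · exact mul_one 1
      · rw [neg_mul_neg, one_mul]
    have h2 := (h1 (η * t)).1
    rw [← mul_assoc, hηη, one_mul] at h2
    have h3 : n * xe r (η * t) * n⁻¹ = xe (chevG2.reflectRoot i r) t := Subtype.ext h2
    rw [mem_V]
    refine ⟨η * t, ?_⟩
    rw [map_mul, map_mul, map_inv, hg, ht, ← h3]
    group
  intro a b ha hb
  have h1 := h _ _ (key hr ha) (key hs hb)
  have e1 : g⁻¹ * a * g * (g⁻¹ * b * g) = g⁻¹ * (a * b) * g := by group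
  have e2 : g⁻¹ * b * g * (g⁻¹ * a * g) = g⁻¹ * (b * a) * g := by group
  rw [e1, e2] at h1
  exact mul_left_cancel (mul_right_cancel h1)

/-- pairs of orthogonal roots -/
def Perp (r s : ℕ) : Bool := (chevG2.cartan 0 r + chevG2.cartan 0 s) % 2 == 0 &&
  (chevG2.cartan 1 r + chevG2.cartan 1 s) % 2 == 0 && r != s && r != chevG2.neg s

/-- the words for the pairs -/
def orbB (l : List (ℕ × ℕ)) : Bool :=
  match l with
  | [] => true
  | x :: l => (orbB l) && ((x.1 == 7 && x.2 == 0) || l.any fun y =>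
      (x.1 == chevG2.reflectRoot 0 y.1 && x.2 == chevG2.reflectRoot 0 y.2) ||
      (x.1 == chevG2.reflectRoot 1 y.1 && x.2 == chevG2.reflectRoot 1 y.2)) && decide (x.1 < 12) && decide (x.2 < 12)

/-- the orbit of the pair `(7, 0)` -/
def orbL : List (ℕ × ℕ) := [(3, 1), (2, 5), (2, 6), (3, 10), (4, 11), (7, 11), (8, 10), (9, 6), (9, 5), (8, 1), (4, 0),
  (7, 0)]

theorem orb_check : orbB orbL = true := by decide +kernel

theorem perp_check : ∀ r ∈ List.range 12, ∀ s ∈ List.range 12, Perp r s = true →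
    (r, s) ∈ orbL ∨ (s, r) ∈ orbL := by decide +kernel

theorem com_of_orb {L : Type*} [Group L] {π : L →* Y} (hπ : Function.Surjective π) (h : Com π 7 0) :
    ∀ l : List (ℕ × ℕ), orbB l = true → ∀ x ∈ l, Com π x.1 x.2 ∧ x.1 < 12 ∧ x.2 < 12
  | [], _, x, hx => absurd hx (by simp)
  | y :: l, hl, x, hx => by
    unfold orbB at hl
    rw [Bool.and_eq_true, Bool.and_eq_true, Bool.and_eq_true, decide_eq_true_eq, decide_eq_true_eq] at hl
    obtain ⟨⟨⟨h1, h2⟩, h3⟩, h4⟩ := hl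
    have ih := com_of_orb hπ h l h1
    rcases List.mem_cons.1 hx with rfl | hx
    · refine ⟨?_, h3, h4⟩
      rw [Bool.or_eq_true, Bool.and_eq_true, beq_iff_eq, beq_iff_eq, List.any_eq_true] at h2
      rcases h2 with ⟨e1, e2⟩ | ⟨y, hy, h5⟩
      · rw [e1, e2]; exact h
      · obtain ⟨h6, h7, h8⟩ := ih y hy
        rw [Bool.or_eq_true, Bool.and_eq_true, Bool.and_eq_true, beq_iff_eq, beq_iff_eq, beq_iff_eq,
          beq_iff_eq] at h5
        rcases h5 with ⟨e1, e2⟩ | ⟨e1, e2⟩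
        · rw [e1, e2]; exact h6.refl hπ h7 h8 0 (by norm_num)
        · rw [e1, e2]; exact h6.refl hπ h7 h8 1 (by norm_num)
    · exact ih x hx

theorem com_of_perp {L : Type*} [Group L] {π : L →* Y} (hπ : Function.Surjective π) (h : Com π 7 0) {r s : ℕ}
    (hr : r < 12) (hs : s < 12) (hrs : Perp r s = true) : Com π r s := by
  rcases perp_check r (List.mem_range.2 hr) s (List.mem_range.2 hs) hrs with h1 | h1
  · exact (com_of_orb hπ h _ orb_check _ h1).1
  · exact (com_of_orb hπ h _ orb_check _ h1).1.symm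

/-! ### The torus -/

/-- torus elements -/
def te (a c : ℤ) : Y :=
  ⟨hG isType.inList (chevG2.simple 0) ((-1) ^ a), hG_mem_group isType.inList _ _⟩ *
    ⟨hG isType.inList (chevG2.simple 1) ((-1) ^ c), hG_mem_group isType.inList _ _⟩

theorem te_conj (a c : ℤ) {s : ℕ} (hs : s < 12) (u : ZMod 3) :
    te a c * xe s u * (te a c)⁻¹ = xe s ((-1) ^ (a * chevG2.cartan 0 s + c * chevG2.cartan 1 s) * u) := by
  have h0 : (-1 : ZMod 3) ≠ 0 := by decide
  have e1 : ∀ (i : ℕ) (_ : i < 2) (z : ℤ) (u : ZMod 3),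
      (⟨hG isType.inList (chevG2.simple i) ((-1) ^ z), hG_mem_group isType.inList _ _⟩ : Y) * xe s u *
        (⟨hG isType.inList (chevG2.simple i) ((-1) ^ z), hG_mem_group isType.inList _ _⟩ : Y)⁻¹ =
        xe s ((-1) ^ (z * chevG2.cartan i s) * u) := by
    intro i hi z u
    apply Subtype.ext
    show hG isType.inList (chevG2.simple i) ((-1) ^ z) * xG isType.inList s u *
      (hG isType.inList (chevG2.simple i) ((-1) ^ z))⁻¹ = xG isType.inList s _
    rw [BruhatSplit.hG_simple_conj isType.inList hi hs (zpow_ne_zero z h0), zpow_mul]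
  unfold te
  rw [mul_inv_rev]
  calc _ = (⟨hG isType.inList (chevG2.simple 0) ((-1) ^ a), hG_mem_group isType.inList _ _⟩ : Y) *
      ((⟨hG isType.inList (chevG2.simple 1) ((-1) ^ c), hG_mem_group isType.inList _ _⟩ : Y) * xe s u *
        (⟨hG isType.inList (chevG2.simple 1) ((-1) ^ c), hG_mem_group isType.inList _ _⟩ : Y)⁻¹) *
      (⟨hG isType.inList (chevG2.simple 0) ((-1) ^ a), hG_mem_group isType.inList _ _⟩ : Y)⁻¹ := by group
    _ = _ := by rw [e1 1 (by norm_num), e1 0 (by norm_num), ← mul_assoc, ← zpow_add₀ h0]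

theorem te_mem (a c : ℤ) : te a c ∈ (chevG2.diagonalSubgroup (ZMod 3)).subgroupOf (chevG2.group (ZMod 3)) := by
  have h0 : (-1 : ZMod 3) ≠ 0 := by decide
  exact mul_mem (hG_mem_diagonal isType.inList (by decide) (zpow_ne_zero a h0))
    (hG_mem_diagonal isType.inList (by decide) (zpow_ne_zero c h0))

theorem te_comm {a c : ℤ} {s : ℕ} (hs : s < 12) (h : (a * chevG2.cartan 0 s + c * chevG2.cartan 1 s) % 2 = 0)
    {v : Y} (hv : v ∈ V s) : te a c * v * (te a c)⁻¹ = v := by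
  obtain ⟨t, rfl⟩ := mem_V.1 hv
  rw [te_conj a c hs, Even.neg_one_zpow (Int.even_iff.2 h), one_mul]

theorem te_free {a c : ℤ} {s : ℕ} (hs : s < 12) (h : (a * chevG2.cartan 0 s + c * chevG2.cartan 1 s) % 2 = 1)
    {v : Y} (hv : v ∈ V s) (he : te a c * v * (te a c)⁻¹ = v) : v = 1 := by
  obtain ⟨t, rfl⟩ := mem_V.1 hv
  rw [te_conj a c hs, Odd.neg_one_zpow (Int.odd_iff.2 h)] at he
  have h1 := xG_injective isType.inList (show s < chevG2.nroots from hs) (congrArg Subtype.val he)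
  have key : ∀ t : ZMod 3, -1 * t = t → t = 0 := by decide
  have h2 : t = 0 := key t h1
  rw [h2, xe_zero]

theorem sep_check : ∀ r ∈ List.range 12, ∀ s ∈ List.range 12, r = s ∨ s = chevG2.neg r ∨ Perp r s = true ∨
    ∃ a ∈ [(0 : ℤ), 1], ∃ c ∈ [(0 : ℤ), 1], (a * chevG2.cartan 0 r + c * chevG2.cartan 1 r) % 2 = 0 ∧
      (a * chevG2.cartan 0 s + c * chevG2.cartan 1 s) % 2 = 1 := by decide +kernel

theorem free_check : ∀ s ∈ List.range 12, ∃ a ∈ [(0 : ℤ), 1], ∃ c ∈ [(0 : ℤ), 1],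
      (a * chevG2.cartan 0 s + c * chevG2.cartan 1 s) % 2 = 1 := by decide +kernel

/-- **The kernel is trivial** if the preimages of one pair of orthogonal root groups commute. -/
theorem ker_trivial {L : Type} [Group L] [Finite L] {π : L →* Y} (hd : PCE π) (hker : IsPGroup 3 π.ker)
    (h : Com π 7 0) : π.ker = ⊥ := by
  have hp := isType
  set cs := (CoxeterMatrix.G₂).toCoxeterSystem with hcs
  have : Finite (CoxeterMatrix.G₂).Group := finite_W hp cs
  have : Fact (Nat.Prime 3) := ⟨by norm_num⟩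
  have R := rgd (K := ZMod 3) hp cs 3
  have hX : ∀ {x : Fin 2 → ℤ} (_ : IsRoot cs hp.isCartan x), ∃ s < 12, vec chevG2 2 s = x ∧
      (XV chevG2 2 (ZMod 3) x).subgroupOf (chevG2.group (ZMod 3)) = V s := by
    intro x hx
    obtain ⟨s, hs, rfl⟩ := (isRoot_iff hp cs x).1 hx
    exact ⟨s, hs, rfl, by rw [XV_vec hp (ZMod 3) hs]⟩
  refine ker_eq_bot_of_torus R (by norm_num) (GG_eq_top_of_G1 (G1_eq_top hp cs)) hd hker
    (T₀ := ((chevG2.diagonalSubgroup (ZMod 3)).subgroupOf (chevG2.group (ZMod 3)) : Subgroup Y)) ?_ ?_ ?_ ?_ ?_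
  · rintro ⟨g, hg⟩ hgT ⟨k, hk⟩ hkT
    exact Subtype.ext (diag_comm hp.inList hgT hkT)
  · intro t ht x hx a ha
    rw [← R.tor x hx.1 t ht]
    exact conj_mem_cj.2 ha
  · intro x hx a b ha hb
    obtain ⟨s, hs, -, e⟩ := hX hx.1
    have h1 : AbPre (V s) := AbPre.of_cyclic (cyclic_V s)
    exact h1 L π hd a b (e ▸ ha) (e ▸ hb)
  · intro x hx
    obtain ⟨s, hs, -, e⟩ := hX hx.1
    obtain ⟨a, -, c, -, h1⟩ := free_check s (List.mem_range.2 hs)
    exact ⟨te a c, te_mem a c, fun v hv => te_free hs h1 (e ▸ hv)⟩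
  · intro x hx y hy hxy
    obtain ⟨r, hr, hrx, e⟩ := hX hx.1
    obtain ⟨s, hs, hsy, e'⟩ := hX hy.1
    rcases sep_check r (List.mem_range.2 hr) s (List.mem_range.2 hs) with h1 | h1 | h1 | ⟨a, -, c, -, h1, h2⟩
    · exact absurd (by rw [← hrx, ← hsy, h1]) hxy
    · exact absurd (by rw [← hrx, ← hsy, h1, vec_neg hp hr]) (Cfsg.Agent.KFacts.Mult.RGDW.ne_neg_of_pos hx hy)
    · left
      intro a b ha hb
      exact com_of_perp hd.surj h hr hs h1 a b (e ▸ ha) (e' ▸ hb)
    · right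
      exact ⟨te a c, te_mem a c, fun v hv => te_comm hr h1 (e ▸ hv), fun v hv => te_free hs h2 (e' ▸ hv)⟩

/-- **The kernel of a perfect central extension of `G₂(3)` by a 3-group has order at most three.** -/
theorem card_ker_le {L : Type} [Group L] [Finite L] {π : L →* Y} (hd : PCE π) (hker : IsPGroup 3 π.ker) :
    Nat.card π.ker ≤ 3 := by
  have : Fact (Nat.Prime 3) := ⟨by norm_num⟩
  obtain ⟨u, hu⟩ := hd.surj (xe 7 1)
  obtain ⟨v, hv⟩ := hd.surj (xe 0 1)
  have huv : xe 7 1 * xe 0 1 = xe 0 1 * xe 7 1 := by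
    apply Subtype.ext
    exact Cfsg.Agent.KFacts.Mult.Chev.commute_of_empty isType (by decide) (by decide) (by decide) (by decide)
      (by decide) 1 1
  set z := ⁅u, v⁆ with hz
  have hzk : z ∈ π.ker := by
    rw [MonoidHom.mem_ker, hz, map_commutatorElement, hu, hv, commutatorElement_eq_one_iff_mul_comm]
    exact huv
  have hzc : ∀ x, x * z = z * x := Subgroup.mem_center_iff.1 (hd.cen hzk)
  have hz3 : z ^ 3 = 1 := by
    have hv3 : v ^ 3 ∈ center L := by
      apply hd.cen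
      rw [MonoidHom.mem_ker, map_pow, hv, ← xe_pow]
      exact xe_zero 0
    have h1 : u * v * u⁻¹ = z * v := by rw [hz, commutatorElement_def]; group
    have h2 : u * v ^ 3 * u⁻¹ = z ^ 3 * v ^ 3 := by
      have e1 : u * v ^ 3 * u⁻¹ = (u * v * u⁻¹) ^ 3 := by rw [conj_pow]
      rw [e1, h1]
      exact (show Commute z v from (hzc v).symm).mul_pow 3
    rw [Subgroup.mem_center_iff.1 hv3 u, mul_inv_cancel_right] at h2
    exact (right_eq_mul.1 h2)
  have hN : zpowers z ≤ π.ker := by rwa [zpowers_le]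
  obtain ⟨L', _, q, ρ, hq, hk, hρ, h1⟩ := hd.quot hN
  have : Finite L' := Finite.of_surjective q hq
  have hcard := card_ker_of_quot (π := π) hq hρ
  have hker' : IsPGroup 3 ρ.ker := by
    obtain ⟨f, hf, -⟩ := exists_ker_hom (π := π) hq hρ
    exact hker.of_surjective f hf
  have hcom : Com ρ 7 0 := by
    intro a b ha hb
    obtain ⟨i, hi⟩ := exists_pow ha
    obtain ⟨j, hj⟩ := exists_pow hb
    have hquv : Commute (q u) (q v) := by
      have h2 : q z = 1 := by
        rw [← MonoidHom.mem_ker, hk]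
        exact mem_zpowers z
      rw [hz, map_commutatorElement, commutatorElement_eq_one_iff_mul_comm] at h2
      exact h2
    have hc : ∀ (x y : L'), ρ x = ρ y → ∃ c ∈ center L', x = y * c := by
      intro x y hxy
      refine ⟨y⁻¹ * x, h1.cen ?_, by rw [mul_inv_cancel_left]⟩
      rw [MonoidHom.mem_ker, map_mul, map_inv, hxy, inv_mul_cancel]
    obtain ⟨c, hcc, hac⟩ := hc a (q u ^ i) (by rw [hi, map_pow, hρ, hu])
    obtain ⟨d, hdc, hbd⟩ := hc b (q v ^ j) (by rw [hj, map_pow, hρ, hv])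
    rw [hac, hbd]
    have c1 : ∀ x, Commute x c := Subgroup.mem_center_iff.1 hcc
    have d1 : ∀ x, Commute x d := Subgroup.mem_center_iff.1 hdc
    have h3 : Commute (q u ^ i * c) (q v ^ j * d) :=
      (((hquv.pow_pow i j).mul_right (d1 _)).mul_left (c1 _).symm)
    exact h3
  have h2 := ker_trivial h1 hker' hcom
  rw [h2, Subgroup.card_bot, one_mul, hk, Nat.card_zpowers] at hcard
  rw [hcard]
  exact Nat.le_of_dvd (by norm_num) (orderOf_dvd_of_pow_eq_one hz3)

/-- **Bound** -/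
theorem bd : Bd 3 1 Y := by
  apply bd_one (by norm_num)
  intro L _ _ π hd hc
  have := card_ker_le hd (IsPGroup.of_card hc)
  omega

end Cfsg.Agent.H64.G23Upper
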