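import Cfsg.Agent.KFacts.Co1D4.GTwo
import Cfsg.Agent.StdG24.Iso6
import Cfsg.Agent.H51.Mult
import Cfsg.Agent.CoOneType.FrameFix
set_option linter.all false

/-!
# The double cover of `G₂(4)`

The commutator subgroup of the preimage in `Co₀` of the subgroup `G₂(4)` of `Co₁`.
-/

set_option autoImplicit false

namespace Cfsg.Agent.H64.CoverG24

open Subgroup
open Cfsg.Agent.H51.Mult
open scoped commutatorElement

section general

variable {E Y : Type*} [Group E] [Group Y] (p : E →* Y)

/-- the commutator subgroup of the preimage -/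
abbrev Hat (L : Subgroup Y) : Subgroup E := ⁅L.comap p, L.comap p⁆

variable {p}

theorem map_hat (hp : Function.Surjective p) {L : Subgroup Y} (hL : ⁅L, L⁆ = L) : (Hat p L).map p = L := by
  rw [Subgroup.map_commutator, Subgroup.map_comap_eq_self_of_surjective hp, hL]

theorem hat_le (L : Subgroup Y) : Hat p L ≤ L.comap p := Subgroup.commutator_le_self _

/-- every element of the preimage is a central element times an element of `Hat` -/
theorem split (hp : Function.Surjective p) {L : Subgroup Y} (hL : ⁅L, L⁆ = L) {g : E} (hg : p g ∈ L) :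
    ∃ z ∈ p.ker, ∃ k ∈ Hat p L, g = k * z := by
  have h : p g ∈ (Hat p L).map p := by rw [map_hat hp hL]; exact hg
  obtain ⟨k, hk, hkg⟩ := h
  refine ⟨k⁻¹ * g, ?_, k, hk, ?_⟩
  · rw [MonoidHom.mem_ker, map_mul, map_inv, hkg, inv_mul_cancel]
  · rw [mul_inv_cancel_left]

theorem comm_mul_central {a b y z : E} (hy : y ∈ center E) (hz : z ∈ center E) : ⁅a * y, b * z⁆ = ⁅a, b⁆ := by
  have h1 : ∀ g, g * y = y * g := fun g => mem_center_iff.1 hy g
  have h2 : ∀ g, g * z = z * g := fun g => mem_center_iff.1 hz g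
  rw [commutatorElement_def, commutatorElement_def, mul_inv_rev, mul_inv_rev]
  calc a * y * (b * z) * (y⁻¹ * a⁻¹) * (z⁻¹ * b⁻¹)
      = a * (y * (b * z) * y⁻¹) * a⁻¹ * (z⁻¹ * b⁻¹) := by group
    _ = a * (b * z) * a⁻¹ * (z⁻¹ * b⁻¹) := by rw [← h1 (b * z), mul_inv_cancel_right]
    _ = a * b * (z * (a⁻¹ * z⁻¹)) * b⁻¹ := by group
    _ = a * b * a⁻¹ * b⁻¹ := by rw [← mul_assoc z, ← h2 a⁻¹, mul_inv_cancel_right]

theorem perf_hat (hp : Function.Surjective p) (hc : p.ker ≤ center E) {L : Subgroup Y} (hL : ⁅L, L⁆ = L) :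
    ⁅Hat p L, Hat p L⁆ = Hat p L := by
  apply le_antisymm (Subgroup.commutator_le_self _)
  rw [Subgroup.commutator_le]
  intro a ha b hb
  obtain ⟨y, hy, a', ha', rfl⟩ := split hp hL ha
  obtain ⟨z, hz, b', hb', rfl⟩ := split hp hL hb
  rw [comm_mul_central (hc hy) (hc hz)]
  exact Subgroup.commutator_mem_commutator ha' hb'

theorem commutator_top_of_self {K : Subgroup E} (h : ⁅K, K⁆ = K) : commutator K = ⊤ := by
  apply Subgroup.map_injective K.subtype_injective
  rw [commutator_def, Subgroup.map_commutator, ← MonoidHom.range_eq_map, Subgroup.range_subtype, h]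

/-- the covering -/
def cov (p : E →* Y) (L : Subgroup Y) : Hat p L →* L :=
  (p.comp (Hat p L).subtype).codRestrict L fun x => hat_le (p := p) L x.2

theorem cov_apply (L : Subgroup Y) (x : Hat p L) : ((cov p L x : L) : Y) = p x := rfl

theorem pce_cov (hp : Function.Surjective p) (hc : p.ker ≤ center E) {L : Subgroup Y} (hL : ⁅L, L⁆ = L) :
    PCE (cov p L) where
  surj := by
    rintro ⟨y, hy⟩
    rw [← map_hat hp hL] at hy
    obtain ⟨x, hx, rfl⟩ := hy
    exact ⟨⟨x, hx⟩, rfl⟩
  cen := by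
    intro x hx
    rw [mem_center_iff]
    intro g
    apply Subtype.ext
    have h1 : (x : E) ∈ p.ker := by
      rw [MonoidHom.mem_ker, ← cov_apply L x, (MonoidHom.mem_ker).1 hx]; rfl
    exact mem_center_iff.1 (hc h1) g
  perf := commutator_top_of_self (perf_hat hp hc hL)

/-- if an element of the preimage has square `z` and the kernel has exponent two, then `z` is in the cover -/
theorem sq_mem (hp : Function.Surjective p) (hc : p.ker ≤ center E) (h2 : ∀ z ∈ p.ker, z * z = 1) {L : Subgroup Y}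
    (hL : ⁅L, L⁆ = L) {g : E} (hg : p g ∈ L) : g * g ∈ Hat p L := by
  obtain ⟨z, hz, k, hk, rfl⟩ := split hp hL hg
  have h1 : k * z * (k * z) = k * k := by
    have h3 : z * k = k * z := (mem_center_iff.1 (hc hz) k).symm
    calc k * z * (k * z) = k * (z * k) * z := by group
      _ = k * k * (z * z) := by rw [h3]; group
      _ = k * k := by rw [h2 z hz, mul_one]
  rw [h1]
  exact mul_mem hk hk

/-- the order of the kernel of the cover is even -/
theorem two_dvd [Finite E] (hp : Function.Surjective p) (hc : p.ker ≤ center E) (h2 : ∀ z ∈ p.ker, z * z = 1)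
    {L : Subgroup Y} (hL : ⁅L, L⁆ = L) {g : E} (hg : p g ∈ L) (hg2 : g * g ∈ p.ker) (hg1 : g * g ≠ 1) :
    2 ∣ Nat.card (cov p L).ker := by
  let z : Hat p L := ⟨g * g, sq_mem hp hc h2 hL hg⟩
  have hz : z ∈ (cov p L).ker := by
    rw [MonoidHom.mem_ker]
    apply Subtype.ext
    exact hg2
  have h3 : orderOf (⟨z, hz⟩ : (cov p L).ker) = 2 := by
    apply orderOf_eq_prime
    · apply Subtype.ext
      apply Subtype.ext
      rw [pow_two]
      exact h2 _ hg2
    · intro h
      apply hg1
      exact congrArg (fun y : (cov p L).ker => ((y : Hat p L) : E)) h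
  rw [← h3]
  exact orderOf_dvd_natCard _

end general

open Cfsg Cfsg.Agent.SporadicA Cfsg.Agent.SporadicStructure.Co0Matrix Cfsg.Agent.CoOneType.CoEval
  Cfsg.Agent.CoOneType Cfsg.Agent.SporadicStructure
open Cfsg.Agent.KFacts.Co1D4

theorem sq_letter : Letters.e 3 * Letters.e 3 = Co0Basic.negCo0 := by
  have h := eq_neg_of_negB Letters.hM (w := [3, 3]) (by decide +kernel)
  simpa using h

theorem ker_pr : (QuotientGroup.mk' (Subgroup.center Co0)).ker ≤ Subgroup.center Co0 :=
  (QuotientGroup.ker_mk' _).le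

theorem sq_center {z : Co0} (hz : z ∈ Subgroup.center Co0) : z * z = 1 := by
  rcases Co0Basic.eq_one_or_neg_of_mem_center hz with rfl | rfl
  · rw [mul_one]
  · apply Subtype.ext
    apply Equiv.ext
    intro v
    show Co0Basic.negCo0.1 (Co0Basic.negCo0.1 v) = v
    rw [Co0Basic.negCo0_apply, Co0Basic.negCo0_apply, neg_neg]

/-- **A perfect double cover of `G₂(4)`** -/
theorem exists_cover : ∃ (K : Type) (_ : Group K) (_ : Finite K) (π : K →* GTwo.L), PCE π ∧ 2 ∣ Nat.card π.ker := by
  have hfin : Finite Co0 := CoOneType.FrameFix.finite_co0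
  have hs : Function.Surjective (QuotientGroup.mk' (Subgroup.center Co0)) := QuotientGroup.mk'_surjective _
  refine ⟨Hat (QuotientGroup.mk' (Subgroup.center Co0)) GTwo.L, inferInstance, inferInstance, cov _ _,
    pce_cov hs ker_pr GTwo.perf_L, ?_⟩
  refine two_dvd hs ker_pr (fun z hz => sq_center (ker_pr hz)) GTwo.perf_L (g := Letters.e 3) ?_ ?_ ?_
  · exact Subgroup.subset_closure ⟨3, rfl⟩
  · rw [sq_letter, MonoidHom.mem_ker]
    exact pr_neg
  · rw [sq_letter]
    exact Co0Basic.negCo0_ne_one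

theorem exists_cover_chev {F : Type*} [Field F] [Fintype F] (hF : Fintype.card F = 4) :
    ∃ (K : Type) (_ : Group K) (_ : Finite K) (π : K →* Cfsg.Lie.chevG2.group F), PCE π ∧ 2 ∣ Nat.card π.ker := by
  obtain ⟨e⟩ := StdG24.Iso6.equiv_chev F hF
  obtain ⟨K, _, _, π, h1, h2⟩ := exists_cover
  refine ⟨K, inferInstance, inferInstance, (GTwo.φ.symm.trans e).toMonoidHom.comp π, h1.congr _, ?_⟩
  rw [ker_congr]
  exact h2

end Cfsg.Agent.H64.CoverG24
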